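import Groth.Agent.FlatMor.K26.StabDefs
import Mathlib.RingTheory.Invariant.Galois
import Mathlib.RingTheory.Valuation.Integral
import Mathlib.RingTheory.Valuation.ValuationSubring
import Mathlib.RingTheory.IntegralClosure.IntegrallyClosed
import Mathlib.RingTheory.Flat.TorsionFree
import Mathlib.RingTheory.LocalRing.Module
import Mathlib.RingTheory.Localization.Module
import Mathlib.RingTheory.Localization.Integral
import Mathlib.RingTheory.DedekindDomain.IntegralClosure
import Mathlib.Algebra.Module.FinitePresentation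
import Mathlib.LinearAlgebra.Basis.SMul
import Mathlib.FieldTheory.Galois.Basic

/-!
Node RO of S14900: the integral closure of a valuation ring in a finite Galois extension that is essentially of
finite type at one extension of the valuation is finite.
-/

set_option autoImplicit false
universe u

namespace K830.EftLattice

open K26.Stab Polynomial

section A

variable {V : Type u} [CommRing V] {E : Type u} [Field E] [Algebra V E]
  {N : Type u} [Field N] [Algebra E N] [Algebra V N] [IsScalarTower V E N]
  {Γ₀ : Type u} [LinearOrderedCommGroupWithZero Γ₀] (v : Valuation N Γ₀)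

theorem le_one_of_isIntegral (hV : ∀ a : V, v (algebraMap V N a) ≤ 1) {x : N} (hx : IsIntegral V x) :
    v x ≤ 1 := by
  let φ : V →+* v.integer := (algebraMap V N).codRestrict v.integer hV
  obtain ⟨p, hp, hpx⟩ := hx
  have h1 : IsIntegral v.integer x := by
    refine ⟨p.map φ, hp.map _, ?_⟩
    rw [eval₂_map]
    exact hpx
  exact Valuation.Integers.mem_of_integral (Valuation.integer.integers v) h1

variable [FiniteDimensional E N] [IsGalois E N]

theorem isIntegral_of_forall
    (hV : ∀ y : E, v (algebraMap E N y) ≤ 1 → ∃ a : V, algebraMap V E a = y) {x : N}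
    (hx : ∀ σ : N ≃ₐ[E] N, v (σ x) ≤ 1) : IsIntegral V x := by
  classical
  have : Fintype (N ≃ₐ[E] N) := Fintype.ofFinite _
  let P : N[X] := MulSemiringAction.charpoly (N ≃ₐ[E] N) x
  -- coefficients have value ≤ 1
  have h1 : P ∈ Polynomial.lifts (algebraMap v.integer N) := by
    refine Subsemiring.prod_mem _ (fun σ _ => ?_)
    refine (Polynomial.mem_lifts _).2 ⟨X - C ⟨σ x, hx σ⟩, ?_⟩
    rw [Polynomial.map_sub, Polynomial.map_X, Polynomial.map_C]
    rfl
  have h2 : ∀ n, v (P.coeff n) ≤ 1 := by
    intro n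
    obtain ⟨y, hy⟩ := (Polynomial.lifts_iff_coeff_lifts P).1 h1 n
    rw [← hy]
    exact y.2
  have h3 : P ∈ Polynomial.lifts (algebraMap E N) := by
    refine (Polynomial.lifts_iff_coeff_lifts P).2 (fun n => ?_)
    rw [IsGalois.mem_range_algebraMap_iff_fixed]
    intro σ
    exact MulSemiringAction.smul_coeff_charpoly (G := (N ≃ₐ[E] N)) x n σ
  have h4 : P ∈ Polynomial.lifts (algebraMap V N) := by
    refine (Polynomial.lifts_iff_coeff_lifts P).2 (fun n => ?_)
    obtain ⟨y, hy⟩ := (Polynomial.lifts_iff_coeff_lifts P).1 h3 n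
    obtain ⟨a, ha⟩ := hV y (by rw [hy]; exact h2 n)
    exact ⟨a, by rw [IsScalarTower.algebraMap_apply V E N, ha, hy]⟩
  obtain ⟨Q, hQ, -, hQm⟩ := Polynomial.lifts_and_natDegree_eq_and_monic h4
    (MulSemiringAction.monic_charpoly (N ≃ₐ[E] N) x)
  refine ⟨Q, hQm, ?_⟩
  rw [← Polynomial.eval_map, hQ]
  exact MulSemiringAction.eval_charpoly (N ≃ₐ[E] N) x

variable (hV : ∀ y : E, v (algebraMap E N y) ≤ 1 ↔ ∃ a : V, algebraMap V E a = y)

omit [FiniteDimensional E N] [IsGalois E N] in
include hV in
theorem le_V (a : V) : v (algebraMap V N a) ≤ 1 := by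
  rw [IsScalarTower.algebraMap_apply V E N]
  exact (hV _).2 ⟨a, rfl⟩

include hV in
theorem isIntegral_iff (x : N) : IsIntegral V x ↔ ∀ σ : N ≃ₐ[E] N, v (σ x) ≤ 1 := by
  constructor
  · intro hx σ
    have h1 : IsIntegral V (σ x) := by
      have : IsIntegral V ((σ.restrictScalars V) x) := hx.map (σ.restrictScalars V)
      exact this
    exact le_one_of_isIntegral v (le_V v hV) h1
  · intro hx
    exact isIntegral_of_forall v (fun y hy => (hV y).1 hy) hx

omit [IsGalois E N] [Algebra V E] [IsScalarTower V E N] in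
/-- a translate of `x` by a small integer is "nowhere small". -/
theorem exists_index (f : ℕ → V)
    (hf : ∀ i j, i ≠ j → v (algebraMap V N (f i) - algebraMap V N (f j)) = 1) (x : N) :
    ∃ i, ∀ σ : N ≃ₐ[E] N, 1 ≤ v (σ x - algebraMap V N (f i)) := by
  by_contra hcon
  push Not at hcon
  have hfin : (⋃ σ : N ≃ₐ[E] N, {i : ℕ | v (σ x - algebraMap V N (f i)) < 1}).Finite := by
    refine Set.finite_iUnion (fun σ => Set.Subsingleton.finite ?_)
    intro i hi j hj
    by_contra hij
    have h1 := hf i j hij
    have h2 : algebraMap V N (f i) - algebraMap V N (f j) =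
        (σ x - algebraMap V N (f j)) - (σ x - algebraMap V N (f i)) := by ring
    rw [h2] at h1
    exact absurd h1 (ne_of_lt (lt_of_le_of_lt (v.map_sub _ _) (max_lt hj hi)))
  refine Set.infinite_univ (α := ℕ) (hfin.subset ?_)
  intro i _
  obtain ⟨σ, hσ⟩ := hcon i
  exact Set.mem_iUnion.2 ⟨σ, hσ⟩

include hV in
/-- fractions with integral numerator and denominator. -/
theorem exists_fraction (f : ℕ → V)
    (hf : ∀ i j, i ≠ j → v (algebraMap V N (f i) - algebraMap V N (f j)) = 1)
    {x : N} (hx : v x ≤ 1) :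
    ∃ b : N, IsIntegral V b ∧ IsIntegral V (b * x) ∧ v b = 1 := by
  obtain ⟨i, hi⟩ := exists_index (E := E) v f hf x
  have hne : x - algebraMap V N (f i) ≠ 0 := by
    intro h0
    have := hi AlgEquiv.refl
    rw [AlgEquiv.coe_refl, id, h0, map_zero] at this
    exact absurd this (not_le_of_gt zero_lt_one)
  have hb : IsIntegral V (x - algebraMap V N (f i))⁻¹ := by
    rw [isIntegral_iff v hV]
    intro σ
    have h1 := hi σ
    have h2 : σ ((x - algebraMap V N (f i))⁻¹) = (σ x - algebraMap V N (f i))⁻¹ := by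
      rw [map_inv₀, map_sub, IsScalarTower.algebraMap_apply V E N, AlgEquiv.commutes]
    rw [h2, map_inv₀]
    exact inv_le_one_of_one_le₀ h1
  refine ⟨(x - algebraMap V N (f i))⁻¹, hb, ?_, ?_⟩
  · have h3 : (x - algebraMap V N (f i))⁻¹ * x =
        1 + algebraMap V N (f i) * (x - algebraMap V N (f i))⁻¹ := by
      field_simp
      ring
    rw [h3]
    exact isIntegral_one.add (isIntegral_algebraMap.mul hb)
  · have h4 : v (x - algebraMap V N (f i)) = 1 :=
      le_antisymm (le_trans (v.map_sub _ _) (max_le hx (le_V v hV _))) (hi AlgEquiv.refl)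
    rw [map_inv₀, h4, inv_one]

end A

section inv

variable {V : Type u} [CommRing V] {N : Type u} [Field N] [Algebra V N]

theorem inv_mem {D : Subalgebra V N} {y : N} (hyi : IsIntegral V y⁻¹) (hy : y ∈ D) (hy0 : y ≠ 0) :
    y⁻¹ ∈ D := by
  obtain ⟨p, hp, hpy⟩ := hyi
  have h1 : eval₂ (algebraMap V N) y p.reverse = 0 := by
    let _ : Invertible (y⁻¹ : N) := ⟨y, mul_inv_cancel₀ hy0, inv_mul_cancel₀ hy0⟩
    exact (Polynomial.eval₂_reverse_eq_zero_iff (algebraMap V N) (y⁻¹) p).2 hpy
  have h2 : p.reverse = p.reverse.divX * X + C 1 := by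
    conv_lhs => rw [← Polynomial.divX_mul_X_add p.reverse]
    rw [Polynomial.coeff_zero_reverse, hp.leadingCoeff]
  rw [h2, eval₂_add, eval₂_mul, eval₂_X, eval₂_C, map_one] at h1
  have h3 : y⁻¹ = - eval₂ (algebraMap V N) y p.reverse.divX := by
    rw [eq_neg_iff_add_eq_zero]
    apply mul_right_cancel₀ hy0
    rw [zero_mul, add_mul, inv_mul_cancel₀ hy0, add_comm]
    exact h1
  rw [h3]
  refine D.neg_mem ?_
  rw [← Polynomial.aeval_def, Polynomial.aeval_eq_sum_range]
  exact D.sum_mem (fun i _ => D.smul_mem (D.pow_mem hy i) _)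

end inv

section B

variable {V : Type u} [CommRing V] {E : Type u} [Field E] [Algebra V E]
  {N : Type u} [Field N] [Algebra E N] [Algebra V N] [IsScalarTower V E N]
  {Γ₀ : Type u} [LinearOrderedCommGroupWithZero Γ₀] (v : Valuation N Γ₀)
  [FiniteDimensional E N] [IsGalois E N]
  (hV : ∀ y : E, v (algebraMap E N y) ≤ 1 ↔ ∃ a : V, algebraMap V E a = y)

/-- an element of a family in a valuation ring that is a unit for finitely many conjugate valuations. -/
theorem exists_unit_comb {ι : Type*} [Fintype ι] (f : ℕ → V)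
    (hV1 : ∀ a : V, v (algebraMap V N a) ≤ 1)
    (hf : ∀ i j, i ≠ j → v (algebraMap V N (f i) - algebraMap V N (f j)) = 1)
    (c : ι → ι → N) (hc : ∀ s t, v (c s t) ≤ 1) (hcc : ∀ s, v (c s s) = 1) :
    ∃ a : ι → V, ∀ s, v (∑ t, algebraMap V N (a t) * c s t) = 1 := by
  classical
  let O := v.valuationSubring
  let κ := IsLocalRing.ResidueField O
  let e := Fintype.equivFin ι
  -- the elements as elements of `O`
  let c' : ι → ι → O := fun s t => ⟨c s t, hc s t⟩
  let g : ℕ → O := fun i => ⟨algebraMap V N (f i), hV1 _⟩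
  have hres : ∀ z : O, IsLocalRing.residue O z ≠ 0 ↔ v (z : N) = 1 := by
    intro z
    rw [Ne, IsLocalRing.residue_eq_zero_iff, IsLocalRing.mem_maximalIdeal, mem_nonunits_iff, not_not]
    have hO : Valuation.Integers v O := ⟨Subtype.coe_injective, fun x => x.2, fun x hx => ⟨⟨x, hx⟩, rfl⟩⟩
    exact hO.isUnit_iff_valuation_eq_one
  let q : ι → κ[X] := fun s => ∑ t, C (IsLocalRing.residue O (c' s t)) * X ^ (e t : ℕ)
  have hq : ∀ s, q s ≠ 0 := by
    intro s h0
    have h1 : (q s).coeff (e s : ℕ) = IsLocalRing.residue O (c' s s) := by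
      rw [Polynomial.finsetSum_coeff, Finset.sum_eq_single s]
      · rw [Polynomial.coeff_C_mul, Polynomial.coeff_X_pow_self, mul_one]
      · intro t _ ht
        rw [Polynomial.coeff_C_mul, Polynomial.coeff_X_pow, if_neg, mul_zero]
        intro h2
        exact ht (e.injective (Fin.ext h2)).symm
      · intro h2; exact absurd (Finset.mem_univ _) h2
    rw [h0, Polynomial.coeff_zero] at h1
    exact (hres (c' s s)).2 (hcc s) h1.symm
  have hprod : (∏ s, q s) ≠ 0 := Finset.prod_ne_zero_iff.2 (fun s _ => hq s)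
  have hinj : Function.Injective (fun i => IsLocalRing.residue O (g i)) := by
    intro i j hij
    by_contra hne
    have h1 : IsLocalRing.residue O (g i - g j) = 0 := by
      rw [map_sub, sub_eq_zero]; exact hij
    exact ((hres _).2 (hf i j hne)) h1
  obtain ⟨j, hj⟩ : ∃ j : ℕ, ¬ (∏ s, q s).IsRoot (IsLocalRing.residue O (g j)) := by
    by_contra hcon
    push Not at hcon
    have hinf : (Set.range (fun i => IsLocalRing.residue O (g i))).Infinite :=
      Set.infinite_range_of_injective hinj
    refine hprod (Polynomial.eq_zero_of_infinite_isRoot _ (hinf.mono ?_))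
    rintro _ ⟨i, rfl⟩
    exact hcon i
  refine ⟨fun t => f j ^ (e t : ℕ), fun s => ?_⟩
  have h5 : (q s).eval (IsLocalRing.residue O (g j)) ≠ 0 := by
    intro h0
    apply hj
    rw [Polynomial.IsRoot.def, Polynomial.eval_prod]
    exact Finset.prod_eq_zero (Finset.mem_univ s) h0
  have h6 : (q s).eval (IsLocalRing.residue O (g j)) =
      IsLocalRing.residue O (∑ t, g j ^ (e t : ℕ) * c' s t) := by
    rw [Polynomial.eval_finsetSum, map_sum]
    refine Finset.sum_congr rfl (fun t _ => ?_)
    rw [Polynomial.eval_mul, Polynomial.eval_C, Polynomial.eval_pow, Polynomial.eval_X, map_mul,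
      map_pow, mul_comm]
  rw [h6] at h5
  have h7 := (hres _).1 h5
  convert h7 using 2
  push_cast
  exact Finset.sum_congr rfl (fun t _ => rfl)

include hV in
/-- The integral closure is finite when the extension is essentially of finite type at `v`. -/
theorem finite_integralClosure (f : ℕ → V)
    (hf : ∀ i j, i ≠ j → v (algebraMap V N (f i) - algebraMap V N (f j)) = 1)
    (heft : EFT v (algebraMap E N).fieldRange ⊤) : Module.Finite V (integralClosure V N) := by
  classical
  obtain ⟨T, hT, hTx⟩ := heft
  have hfr : ∀ t : T, ∃ b : N, IsIntegral V b ∧ IsIntegral V (b * (t : N)) ∧ v b = 1 :=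
    fun t => exists_fraction v hV f hf (hT t t.2).2
  choose b hb1 hb2 hb3 using hfr
  have : Finite (N ≃ₐ[E] N) := inferInstance
  have : Fintype (N ≃ₐ[E] N) := Fintype.ofFinite _
  -- the generators
  let S : Set N := Set.range (fun z : (N ≃ₐ[E] N) × T => z.1 (b z.2)) ∪
    Set.range (fun z : (N ≃ₐ[E] N) × T => z.1 (b z.2 * (z.2 : N)))
  have hSfin : S.Finite := (Set.finite_range _).union (Set.finite_range _)
  have hσint : ∀ (σ : N ≃ₐ[E] N) (x : N), IsIntegral V x → IsIntegral V (σ x) := by
    intro σ x hx
    rw [isIntegral_iff v hV] at hx ⊢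
    intro τ
    exact hx (σ.trans τ)
  have hSint : ∀ x ∈ S, IsIntegral V x := by
    rintro x (⟨z, rfl⟩ | ⟨z, rfl⟩)
    · exact hσint _ _ (hb1 _)
    · exact hσint _ _ (hb2 _)
  let C : Subalgebra V N := Algebra.adjoin V S
  have hCfg : (Subalgebra.toSubmodule C).FG := fg_adjoin_of_finite hSfin hSint
  -- stability
  have hSst : ∀ (σ : N ≃ₐ[E] N), ∀ x ∈ S, σ x ∈ S := by
    rintro σ x (⟨z, rfl⟩ | ⟨z, rfl⟩)
    · exact Or.inl ⟨(z.1.trans σ, z.2), rfl⟩
    · exact Or.inr ⟨(z.1.trans σ, z.2), rfl⟩
  have hCst : ∀ (σ : N ≃ₐ[E] N), ∀ x ∈ C, σ x ∈ C := by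
    intro σ x hx
    induction hx using Algebra.adjoin_induction with
    | mem x hx => exact Algebra.subset_adjoin (hSst σ x hx)
    | algebraMap r =>
      rw [IsScalarTower.algebraMap_apply V E N, AlgEquiv.commutes,
        ← IsScalarTower.algebraMap_apply V E N]
      exact C.algebraMap_mem r
    | add x y _ _ hx hy => rw [map_add]; exact C.add_mem hx hy
    | mul x y _ _ hx hy => rw [map_mul]; exact C.mul_mem hx hy
  -- denominators
  have hden : ∀ z ∈ Subring.closure ({x | x ∈ (algebraMap E N).fieldRange ∧ v x ≤ 1} ∪ (T : Set N)),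
      ∃ c ∈ C, v c = 1 ∧ c * z ∈ C := by
    intro z hz
    induction hz using Subring.closure_induction with
    | mem z hz =>
      rcases hz with ⟨⟨y, rfl⟩, hz⟩ | hz
      · obtain ⟨a, ha⟩ := (hV y).1 hz
        refine ⟨1, C.one_mem, map_one v, ?_⟩
        rw [one_mul, ← ha, ← IsScalarTower.algebraMap_apply V E N]
        exact C.algebraMap_mem a
      · refine ⟨b ⟨z, hz⟩, Algebra.subset_adjoin (Or.inl ⟨(AlgEquiv.refl, ⟨z, hz⟩), rfl⟩), hb3 _, ?_⟩
        exact Algebra.subset_adjoin (Or.inr ⟨(AlgEquiv.refl, ⟨z, hz⟩), rfl⟩)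
    | zero => exact ⟨1, C.one_mem, map_one v, by rw [mul_zero]; exact C.zero_mem⟩
    | one => exact ⟨1, C.one_mem, map_one v, by rw [mul_one]; exact C.one_mem⟩
    | neg z _ ih =>
      obtain ⟨c, h1, h2, h3⟩ := ih
      exact ⟨c, h1, h2, by rw [mul_neg]; exact C.neg_mem h3⟩
    | add x y _ _ ihx ihy =>
      obtain ⟨c, h1, h2, h3⟩ := ihx
      obtain ⟨c', h1', h2', h3'⟩ := ihy
      refine ⟨c * c', C.mul_mem h1 h1', by rw [map_mul, h2, h2', one_mul], ?_⟩
      have : c * c' * (x + y) = c' * (c * x) + c * (c' * y) := by ring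
      rw [this]
      exact C.add_mem (C.mul_mem h1' h3) (C.mul_mem h1 h3')
    | mul x y _ _ ihx ihy =>
      obtain ⟨c, h1, h2, h3⟩ := ihx
      obtain ⟨c', h1', h2', h3'⟩ := ihy
      refine ⟨c * c', C.mul_mem h1 h1', by rw [map_mul, h2, h2', one_mul], ?_⟩
      have : c * c' * (x * y) = (c * x) * (c' * y) := by ring
      rw [this]
      exact C.mul_mem h3 h3'
  have hCint : ∀ x ∈ C, IsIntegral V x := by
    intro x hx
    exact (Algebra.adjoin_le (S := integralClosure V N) (fun y hy => hSint y hy)) hx
  -- conductor elements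
  have hcond : ∀ x : N, IsIntegral V x → ∀ σ : N ≃ₐ[E] N, ∃ c ∈ C, c * x ∈ C ∧ v (σ c) = 1 := by
    intro x hx σ
    have h1 : v (σ x) ≤ 1 := (isIntegral_iff v hV x).1 hx σ
    obtain ⟨a, ha, d, hd, hvd, had⟩ := hTx (σ x) trivial h1
    obtain ⟨c1, h11, h12, h13⟩ := hden a ha
    obtain ⟨c2, h21, h22, h23⟩ := hden d hd
    refine ⟨σ.symm (c1 * (c2 * d)), hCst _ _ (C.mul_mem h11 h23), ?_, ?_⟩
    · have h3 : σ.symm (c1 * (c2 * d)) * x = σ.symm (c2 * (c1 * a)) := by
        apply σ.injective
        rw [map_mul, AlgEquiv.apply_symm_apply, AlgEquiv.apply_symm_apply, ← had]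
        ring
      rw [h3]
      exact hCst _ _ (C.mul_mem h21 h13)
    · rw [AlgEquiv.apply_symm_apply, map_mul, map_mul, h12, h22, hvd, one_mul, one_mul]
  -- the integral closure is `C`
  have hle : ∀ x : N, IsIntegral V x → x ∈ C := by
    intro x hx
    choose c hc1 hc2 hc3 using hcond x hx
    obtain ⟨a, ha⟩ := exists_unit_comb v f (le_V v hV) hf (fun s t => s (c t))
      (fun s t => (isIntegral_iff v hV _).1 (hCint _ (hc1 t)) s) hc3
    let y : N := ∑ t, algebraMap V N (a t) * c t
    have hy1 : y ∈ C := C.sum_mem (fun t _ => C.mul_mem (C.algebraMap_mem _) (hc1 t))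
    have hy2 : y * x ∈ C := by
      have : y * x = ∑ t, algebraMap V N (a t) * (c t * x) := by
        rw [Finset.sum_mul]
        exact Finset.sum_congr rfl (fun t _ => by ring)
      rw [this]
      exact C.sum_mem (fun t _ => C.mul_mem (C.algebraMap_mem _) (hc2 t))
    have hy3 : ∀ s : N ≃ₐ[E] N, v (s y) = 1 := by
      intro s
      have : s y = ∑ t, algebraMap V N (a t) * s (c t) := by
        rw [map_sum]
        refine Finset.sum_congr rfl (fun t _ => ?_)
        rw [map_mul, IsScalarTower.algebraMap_apply V E N, AlgEquiv.commutes]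
      rw [this]
      exact ha s
    have hy0 : y ≠ 0 := by
      intro h0
      have := hy3 AlgEquiv.refl
      rw [h0, map_zero, map_zero] at this
      exact zero_ne_one this
    have hyi : IsIntegral V y⁻¹ := by
      rw [isIntegral_iff v hV]
      intro s
      rw [map_inv₀, map_inv₀, hy3 s, inv_one]
    -- `y` is a unit of `C`
    have hyC : y⁻¹ ∈ C := inv_mem hyi hy1 hy0
    have : x = y⁻¹ * (y * x) := by field_simp
    rw [this]
    exact C.mul_mem hyC hy2
  have hCeq : C = integralClosure V N := le_antisymm (fun x hx => hCint x hx) (fun x hx => hle x hx)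
  rw [← hCeq]
  exact ⟨(Submodule.fg_top _).2 hCfg⟩

end B

section C

variable {V : Type u} [CommRing V] [IsDomain V] [ValuationRing V]

theorem free_of_torsionFree {M : Type*} [AddCommGroup M] [Module V M] [Module.Finite V M]
    [Module.IsTorsionFree V M] : Module.Free V M := by
  have : Module.Flat V M := by
    rw [Module.Flat.flat_iff_torsion_eq_bot_of_isBezout, ← Submodule.isTorsionFree_iff_torsion_eq_bot]
    infer_instance
  exact Module.free_of_flat_of_isLocalRing

variable {E : Type u} [Field E] [Algebra V E] [IsFractionRing V E]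
  {L : Type u} [Field L] [Algebra E L] [FiniteDimensional E L] [Algebra V L] [IsScalarTower V E L]

omit [FiniteDimensional E L] in
include E in
theorem finite_sub {N : Type u} [Field N] [Algebra L N] [Algebra V N] [IsScalarTower V L N]
    (h : Module.Finite V (integralClosure V N)) : Module.Finite V (integralClosure V L) := by
  have hVL : Function.Injective (algebraMap V L) := by
    rw [IsScalarTower.algebraMap_eq V E L]
    exact (algebraMap E L).injective.comp (IsFractionRing.injective V E)
  have hVN : Function.Injective (algebraMap V N) := by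
    rw [IsScalarTower.algebraMap_eq V L N]
    exact (algebraMap L N).injective.comp hVL
  let φ : integralClosure V L →ₗ[V] integralClosure V N :=
    LinearMap.codRestrict (Subalgebra.toSubmodule (integralClosure V N))
      ((IsScalarTower.toAlgHom V L N).toLinearMap ∘ₗ (Subalgebra.toSubmodule (integralClosure V L)).subtype)
      (fun x => x.2.map (IsScalarTower.toAlgHom V L N))
  have hφ : ∀ x, ((φ x : integralClosure V N) : N) = algebraMap L N (x : L) := fun x => rfl
  have hφinj : Function.Injective φ := by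
    intro x y hxy
    apply Subtype.ext
    apply (algebraMap L N).injective
    rw [← hφ, ← hφ, hxy]
  have htf : Module.IsTorsionFree V (integralClosure V N ⧸ φ.range) := by
    refine Module.IsTorsionFree.of_smul_eq_zero (fun r m hm => ?_)
    obtain ⟨y, rfl⟩ := Submodule.mkQ_surjective _ m
    by_cases hr : r = 0
    · exact Or.inl hr
    right
    rw [← map_smul, Submodule.mkQ_apply, Submodule.Quotient.mk_eq_zero] at hm
    obtain ⟨x, hx⟩ := hm
    rw [Submodule.mkQ_apply, Submodule.Quotient.mk_eq_zero]
    have hrL : algebraMap V L r ≠ 0 := by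
      rw [Ne, map_eq_zero_iff _ hVL]; exact hr
    have hx' : algebraMap L N (x : L) = algebraMap V N r * (y : N) := by
      rw [← hφ, hx]
      exact Algebra.smul_def r (y : N)
    have hz : algebraMap L N ((algebraMap V L r)⁻¹ * (x : L)) = (y : N) := by
      rw [map_mul, map_inv₀, ← IsScalarTower.algebraMap_apply V L N, hx', ← mul_assoc,
        inv_mul_cancel₀, one_mul]
      rw [Ne, map_eq_zero_iff _ hVN]; exact hr
    have hzi : IsIntegral V ((algebraMap V L r)⁻¹ * (x : L)) := by
      rw [← isIntegral_algebraMap_iff (algebraMap L N).injective, hz]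
      exact y.2
    exact ⟨⟨_, hzi⟩, Subtype.ext hz⟩
  have : Module.Free V (integralClosure V N ⧸ φ.range) := free_of_torsionFree
  have : Module.FinitePresentation V (integralClosure V N ⧸ φ.range) :=
    Module.finitePresentation_of_projective _ _
  have h1 : (LinearMap.ker φ.range.mkQ).FG :=
    Module.FinitePresentation.fg_ker φ.range.mkQ (Submodule.mkQ_surjective _)
  rw [Submodule.ker_mkQ] at h1
  have h2 : Module.Finite V φ.range := Module.Finite.iff_fg.2 h1
  exact Module.Finite.equiv (LinearEquiv.ofInjective φ hφinj).symm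

/-- a basis of `L` over `E` which is a basis of the integral closure over `V`. -/
theorem exists_basis (h : Module.Finite V (integralClosure V L)) :
    ∃ b : Module.Basis (Fin (Module.finrank E L)) E L, (∀ i, IsIntegral V (b i)) ∧
      ∀ x : L, IsIntegral V x → ∀ i, ∃ a : V, algebraMap V E a = b.repr x i := by
  have hVE : Function.Injective (algebraMap V E) := IsFractionRing.injective V E
  have hVL : Function.Injective (algebraMap V L) := by
    rw [IsScalarTower.algebraMap_eq V E L]
    exact (algebraMap E L).injective.comp hVE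
  have : Module.IsTorsionFree V (integralClosure V L) := by
    refine Module.IsTorsionFree.of_smul_eq_zero (fun r m hm => ?_)
    have h1 : algebraMap V L r * (m : L) = 0 := by
      rw [← Algebra.smul_def]
      exact congrArg Subtype.val hm
    rcases mul_eq_zero.1 h1 with h2 | h2
    · exact Or.inl ((map_eq_zero_iff _ hVL).1 h2)
    · exact Or.inr (Subtype.ext h2)
  have : Module.Free V (integralClosure V L) := free_of_torsionFree
  have : IsLocalization (Algebra.algebraMapSubmonoid (integralClosure V L) (nonZeroDivisors V)) L :=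
    IsIntegralClosure.isLocalization V E L (integralClosure V L)
  let b := Module.Free.chooseBasis V (integralClosure V L)
  let b' : Module.Basis _ E L := b.localizationLocalization E (nonZeroDivisors V) L
  have hcard : Nat.card (Module.Free.ChooseBasisIndex V (integralClosure V L)) = Module.finrank E L := by
    rw [Module.finrank_eq_nat_card_basis b']
  have : Fintype (Module.Free.ChooseBasisIndex V (integralClosure V L)) := Fintype.ofFinite _
  let e : Module.Free.ChooseBasisIndex V (integralClosure V L) ≃ Fin (Module.finrank E L) :=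
    (Finite.equivFin _).trans (finCongr hcard)
  refine ⟨b'.reindex e, fun i => ?_, fun x hx i => ?_⟩
  · rw [Module.Basis.reindex_apply, Module.Basis.localizationLocalization_apply]
    exact (b (e.symm i)).2
  · refine ⟨b.repr ⟨x, hx⟩ (e.symm i), ?_⟩
    rw [Module.Basis.repr_reindex_apply]
    exact (b.localizationLocalization_repr_algebraMap E (nonZeroDivisors V) L ⟨x, hx⟩ (e.symm i)).symm

end C

section D

variable {P : Type u} [CommRing P] (M : Submonoid P) {V : Type u} [CommRing V] [Algebra P V]
  [IsLocalization M V] {E : Type u} [Field E] [Algebra P E] [Algebra V E] [IsScalarTower P V E]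
  {L : Type u} [Field L] [Algebra E L] [FiniteDimensional E L] [Algebra V L] [IsScalarTower V E L]
  [Algebra P L] [IsScalarTower P E L]

omit [FiniteDimensional E L] in
include M in
theorem descend (hM : ∀ s ∈ M, algebraMap P E s ≠ 0)
    (h : ∃ b : Module.Basis (Fin (Module.finrank E L)) E L, (∀ i, IsIntegral V (b i)) ∧
      ∀ x : L, IsIntegral V x → ∀ i, ∃ a : V, algebraMap V E a = b.repr x i) :
    ∃ b : Module.Basis (Fin (Module.finrank E L)) E L, (∀ i, IsIntegral P (b i)) ∧
      ∀ x : L, (∃ s ∈ M, IsIntegral P (algebraMap P L s * x)) → ∀ i, ∃ s ∈ M, ∃ a : P,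
        algebraMap P E s * b.repr x i = algebraMap P E a := by
  obtain ⟨b, hb, hbx⟩ := h
  have : IsScalarTower P V L := by
    refine IsScalarTower.of_algebraMap_eq (fun a => ?_)
    rw [IsScalarTower.algebraMap_apply P E L, IsScalarTower.algebraMap_apply P V E,
      ← IsScalarTower.algebraMap_apply V E L]
  have h1 : ∀ i, ∃ m : M, IsIntegral P (m • b i) := fun i =>
    IsIntegral.exists_multiple_integral_of_isLocalization M (b i) (hb i)
  choose m hm using h1
  have hw : ∀ i, IsUnit (algebraMap P E (m i : P)) := fun i => isUnit_iff_ne_zero.2 (hM _ (m i).2)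
  refine ⟨b.isUnitSMul hw, fun i => ?_, fun x hx i => ?_⟩
  · rw [Module.Basis.isUnitSMul_apply, algebraMap_smul]
    exact hm i
  · obtain ⟨s, hs, hsx⟩ := hx
    have h2 : IsIntegral V x := by
      obtain ⟨u, hu⟩ := (IsLocalization.map_units V ⟨s, hs⟩ : IsUnit (algebraMap P V s))
      have h3 : IsIntegral V (algebraMap P L s * x) := hsx.tower_top
      have h4 : x = algebraMap V L (↑u⁻¹ : V) * (algebraMap P L s * x) := by
        rw [IsScalarTower.algebraMap_apply P V L, ← hu, ← mul_assoc, ← map_mul, Units.inv_mul,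
          map_one, one_mul]
      rw [h4]
      exact isIntegral_algebraMap.mul h3
    obtain ⟨a, ha⟩ := hbx x h2 i
    obtain ⟨⟨p, t⟩, hpt⟩ := IsLocalization.surj M a
    refine ⟨t * m i, M.mul_mem t.2 (m i).2, p, ?_⟩
    rw [Module.Basis.repr_isUnitSMul, Units.smul_def, smul_eq_mul, ← ha, map_mul]
    have h5 : algebraMap P E (m i : P) * ((↑(hw i).unit⁻¹ : E) * algebraMap V E a) = algebraMap V E a := by
      rw [← mul_assoc]
      rw [(hw i).mul_val_inv, one_mul]
    rw [mul_assoc, h5, IsScalarTower.algebraMap_apply P V E, ← map_mul, mul_comm, hpt,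
      ← IsScalarTower.algebraMap_apply P V E]

end D

section F

variable {R : Type u} [CommRing R] [IsDomain R] [ValuationRing R]

/-- content of a polynomial over a valuation ring. -/
theorem exists_primitive {σ : Type*} (p : MvPolynomial σ R) (hp : p ≠ 0) :
    ∃ (r : R) (q : MvPolynomial σ R), r ≠ 0 ∧ (∃ m, IsUnit (q.coeff m)) ∧ p = MvPolynomial.C r * q := by
  classical
  have h1 : ∀ S : Finset (σ →₀ ℕ), S.Nonempty → ∃ m ∈ S, ∀ m' ∈ S, p.coeff m ∣ p.coeff m' := by
    intro S hS
    induction hS using Finset.Nonempty.cons_induction with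
    | singleton a => exact ⟨a, Finset.mem_singleton_self a, fun m' hm' => by
        rw [Finset.mem_singleton] at hm'; rw [hm']⟩
    | cons a S ha hS ih =>
      obtain ⟨m, hm, hmS⟩ := ih
      rcases ValuationRing.dvd_total (p.coeff m) (p.coeff a) with h | h
      · exact ⟨m, Finset.mem_cons_of_mem hm, fun m' hm' => by
          rcases Finset.mem_cons.1 hm' with rfl | h'
          · exact h
          · exact hmS m' h'⟩
      · exact ⟨a, Finset.mem_cons_self a S, fun m' hm' => by
          rcases Finset.mem_cons.1 hm' with rfl | h'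
          · exact dvd_rfl
          · exact h.trans (hmS m' h')⟩
  obtain ⟨m, hm, hmS⟩ := h1 p.support (MvPolynomial.support_nonempty.2 hp)
  have h2 : MvPolynomial.C (p.coeff m) ∣ p := by
    rw [MvPolynomial.C_dvd_iff_dvd_coeff]
    intro i
    by_cases hi : i ∈ p.support
    · exact hmS i hi
    · rw [MvPolynomial.notMem_support_iff.1 hi]
      exact dvd_zero _
  obtain ⟨q, hq⟩ := h2
  have h3 : p.coeff m ≠ 0 := MvPolynomial.mem_support_iff.1 hm
  refine ⟨p.coeff m, q, h3, ⟨m, ?_⟩, hq⟩
  have h4 : p.coeff m = p.coeff m * q.coeff m := by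
    conv_lhs => rw [hq, MvPolynomial.coeff_C_mul]
  have h5 : q.coeff m = 1 := by
    apply mul_left_cancel₀ h3
    rw [← h4, mul_one]
  rw [h5]
  exact isUnit_one

theorem dvd_of_le {N : Type u} [Field N] [Algebra R N] {Γ₀ : Type u}
    [LinearOrderedCommGroupWithZero Γ₀] {v : Valuation N Γ₀} (hB : Base₀ R v) {r s : R} (hs : s ≠ 0)
    (h : v (algebraMap R N r) ≤ v (algebraMap R N s)) : s ∣ r := by
  rcases ValuationRing.dvd_total s r with h1 | ⟨c, hc⟩
  · exact h1
  · have hs0 : v (algebraMap R N s) ≠ 0 := by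
      rw [Ne, map_eq_zero, map_eq_zero_iff _ hB.inj]; exact hs
    have hr0 : v (algebraMap R N r) ≠ 0 := by
      intro h0
      apply hs0
      rw [hc, map_mul, map_mul, h0, zero_mul]
    have hcu : IsUnit c := by
      by_contra hcn
      have h2 := hB.lt c hcn
      rw [hc, map_mul, map_mul] at h
      have h3 : v (algebraMap R N r) * v (algebraMap R N c) < v (algebraMap R N r) * 1 :=
        mul_lt_mul_of_pos_left h2 (zero_lt_iff.2 hr0)
      rw [mul_one] at h3
      exact absurd h (not_le_of_gt h3)
    rw [hc]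
    exact (hcu.mul_right_dvd).2 dvd_rfl

end F

section G

theorem exists_lattice_of_eft {R : Type u} [CommRing R] [IsDomain R] [ValuationRing R]
    (hinf : Infinite (IsLocalRing.ResidueField R)) {d : ℕ}
    {E : Type u} [Field E] [Algebra (MvPolynomial (Fin d) R) E] [IsFractionRing (MvPolynomial (Fin d) R) E]
    {L : Type u} [Field L] [Algebra E L] [FiniteDimensional E L]
    [Algebra (MvPolynomial (Fin d) R) L] [IsScalarTower (MvPolynomial (Fin d) R) E L]
    {N : Type u} [Field N] [Algebra E N] [Algebra L N] [IsScalarTower E L N] [FiniteDimensional E N]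
    [IsGalois E N] [Algebra R N] [Algebra (MvPolynomial (Fin d) R) N]
    [IsScalarTower (MvPolynomial (Fin d) R) E N] [IsScalarTower R (MvPolynomial (Fin d) R) N]
    {Γ₀ : Type u} [LinearOrderedCommGroupWithZero Γ₀] (v : Valuation N Γ₀) (hB : Base R v)
    (hx : ∀ P : MvPolynomial (Fin d) R, (∃ m, IsUnit (P.coeff m)) →
      v (algebraMap (MvPolynomial (Fin d) R) N P) = 1)
    (heft : EFT v (algebraMap E N).fieldRange ⊤) :
    ∃ b : Module.Basis (Fin (Module.finrank E L)) E L,
      (∀ i, IsIntegral (MvPolynomial (Fin d) R) (b i)) ∧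
      ∀ x : L, (∃ s : MvPolynomial (Fin d) R, (∃ m, IsUnit (s.coeff m)) ∧
        IsIntegral (MvPolynomial (Fin d) R) (algebraMap _ L s * x)) →
        ∀ i, ∃ s a : MvPolynomial (Fin d) R, (∃ m, IsUnit (s.coeff m)) ∧
          algebraMap _ E s * b.repr x i = algebraMap _ E a := by
  classical
  let P := MvPolynomial (Fin d) R
  have hRN : ∀ r : R, algebraMap P N (MvPolynomial.C r) = algebraMap R N r := by
    intro r
    rw [IsScalarTower.algebraMap_apply R P N]
    rfl
  have hprim : ∀ s : P, (∃ m, IsUnit (s.coeff m)) ↔ v (algebraMap P N s) = 1 := by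
    intro s
    refine ⟨hx s, fun h => ?_⟩
    have hs : s ≠ 0 := by
      rintro rfl
      rw [map_zero, map_zero] at h
      exact zero_ne_one h
    obtain ⟨r, q, hr, hq, rfl⟩ := exists_primitive s hs
    rw [map_mul, map_mul, hx q hq, mul_one, hRN] at h
    have hru : IsUnit r := by
      by_contra hrn
      exact absurd h (ne_of_lt (hB.lt r hrn))
    obtain ⟨m, hm⟩ := hq
    exact ⟨m, by rw [MvPolynomial.coeff_C_mul]; exact hru.mul hm⟩
  have hle : ∀ s : P, v (algebraMap P N s) ≤ 1 := by
    intro s
    by_cases hs : s = 0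
    · rw [hs, map_zero, map_zero]; exact zero_le_one
    · obtain ⟨r, q, hr, hq, rfl⟩ := exists_primitive s hs
      rw [map_mul, map_mul, hx q hq, mul_one, hRN]
      exact hB.le r
  let V : ValuationSubring E := (v.comap (algebraMap E N)).valuationSubring
  have hVmem : ∀ y : E, y ∈ V ↔ v (algebraMap E N y) ≤ 1 := fun y => Iff.rfl
  have hPV : ∀ s : P, algebraMap P E s ∈ V := by
    intro s
    rw [hVmem, ← IsScalarTower.algebraMap_apply P E N]
    exact hle s
  let M : Submonoid P :=
    { carrier := {s | v (algebraMap P N s) = 1}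
      one_mem' := by
        change v (algebraMap P N 1) = 1
        rw [map_one, map_one]
      mul_mem' := by
        intro a b ha hb
        change v (algebraMap P N (a * b)) = 1
        rw [map_mul, map_mul, ha, hb, one_mul] }
  have hM : ∀ s, s ∈ M ↔ v (algebraMap P N s) = 1 := fun s => Iff.rfl
  letI algPV : Algebra P V := ((algebraMap P E).codRestrict V hPV).toAlgebra
  have hPVE : IsScalarTower P V E := IsScalarTower.of_algebraMap_eq (fun _ => rfl)
  have hPEinj : Function.Injective (algebraMap P E) := IsFractionRing.injective P E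
  have hfrac : ∀ y : E, v (algebraMap E N y) ≤ 1 → ∃ s a : P, s ∈ M ∧
      y * algebraMap P E s = algebraMap P E a := by
    intro y hy
    obtain ⟨⟨a, s⟩, has⟩ := IsLocalization.surj (nonZeroDivisors P) y
    have hs0 : (s : P) ≠ 0 := nonZeroDivisors.coe_ne_zero s
    by_cases ha : a = 0
    · refine ⟨1, 0, M.one_mem, ?_⟩
      change y * algebraMap P E s = algebraMap P E a at has
      rw [ha, map_zero] at has
      have hsE : algebraMap P E (s : P) ≠ 0 := by
        rw [Ne, map_eq_zero_iff _ hPEinj]; exact hs0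
      rw [(mul_eq_zero.1 has).resolve_right hsE, zero_mul, map_zero]
    · obtain ⟨r, q, hr, hq, hqa⟩ := exists_primitive a ha
      obtain ⟨r', q', hr', hq', hqs⟩ := exists_primitive (s : P) hs0
      change y * algebraMap P E s = algebraMap P E a at has
      have h1 : v (algebraMap E N y) * v (algebraMap R N r') = v (algebraMap R N r) := by
        have h2 := congrArg (fun z => v (algebraMap E N z)) has
        simp only [map_mul, ← IsScalarTower.algebraMap_apply P E N] at h2
        rw [hqa, hqs, map_mul, map_mul, map_mul, map_mul, hx q hq, hx q' hq', hRN, hRN, mul_one,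
          mul_one] at h2
        exact h2
      have h3 : r' ∣ r := by
        apply dvd_of_le hB.toBase₀ hr'
        rw [← h1]
        calc v (algebraMap E N y) * v (algebraMap R N r') ≤ 1 * v (algebraMap R N r') :=
              mul_le_mul' hy le_rfl
          _ = _ := one_mul _
      obtain ⟨c, rfl⟩ := h3
      refine ⟨q', MvPolynomial.C c * q, (hM _).2 (hx q' hq'), ?_⟩
      have hr'E : algebraMap P E (MvPolynomial.C r') ≠ 0 := by
        rw [Ne, map_eq_zero_iff _ hPEinj, MvPolynomial.C_eq_zero]; exact hr'
      apply mul_left_cancel₀ hr'E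
      rw [hqa, hqs] at has
      rw [map_mul] at has
      rw [← mul_assoc, mul_comm (algebraMap P E (MvPolynomial.C r')) y, mul_assoc, has, ← map_mul,
        ← mul_assoc, map_mul MvPolynomial.C]
  have hloc : IsLocalization M V := by
    refine ⟨?_, ?_, ?_⟩
    · rintro ⟨s, hs⟩
      have hs1 : v (algebraMap E N (algebraMap P E s)) = 1 := by
        rw [← IsScalarTower.algebraMap_apply P E N]; exact hs
      have hs0 : algebraMap P E s ≠ 0 := by
        intro h0
        rw [h0, map_zero, map_zero] at hs1
        exact zero_ne_one hs1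
      have h2 : (algebraMap P E s)⁻¹ ∈ V := by
        rw [hVmem, map_inv₀, map_inv₀, hs1, inv_one]
      exact IsUnit.of_mul_eq_one ⟨_, h2⟩ (Subtype.ext (mul_inv_cancel₀ hs0))
    · rintro ⟨y, hy⟩
      obtain ⟨s, a, hs, h⟩ := hfrac y hy
      exact ⟨⟨a, ⟨s, hs⟩⟩, Subtype.ext h⟩
    · intro x y hxy
      refine ⟨1, ?_⟩
      have := congrArg Subtype.val hxy
      rw [hPEinj this]
  letI algVN : Algebra V N := ((algebraMap E N).comp (algebraMap V E)).toAlgebra
  have hVEN : IsScalarTower V E N := IsScalarTower.of_algebraMap_eq (fun _ => rfl)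
  letI algVL : Algebra V L := ((algebraMap E L).comp (algebraMap V E)).toAlgebra
  have hVEL : IsScalarTower V E L := IsScalarTower.of_algebraMap_eq (fun _ => rfl)
  have hVLN : IsScalarTower V L N := by
    refine IsScalarTower.of_algebraMap_eq (fun x => ?_)
    change algebraMap E N (algebraMap V E x) = algebraMap L N (algebraMap E L (algebraMap V E x))
    rw [← IsScalarTower.algebraMap_apply E L N]
  have hV : ∀ y : E, v (algebraMap E N y) ≤ 1 ↔ ∃ a : V, algebraMap V E a = y := by
    intro y
    constructor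
    · intro hy; exact ⟨⟨y, hy⟩, rfl⟩
    · rintro ⟨a, rfl⟩; exact a.2
  -- infinitely many residues
  let g : ℕ ↪ IsLocalRing.ResidueField R := Infinite.natEmbedding _
  have hlift : ∀ i, ∃ r : R, IsLocalRing.residue R r = g i := fun i => IsLocalRing.residue_surjective _
  choose r hr using hlift
  let f : ℕ → V := fun i => algebraMap P V (MvPolynomial.C (r i))
  have hfN : ∀ i, algebraMap V N (f i) = algebraMap R N (r i) := by
    intro i
    rw [← hRN]
    change algebraMap E N (algebraMap P E (MvPolynomial.C (r i))) = _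
    rw [← IsScalarTower.algebraMap_apply P E N]
  have hf : ∀ i j, i ≠ j → v (algebraMap V N (f i) - algebraMap V N (f j)) = 1 := by
    intro i j hij
    rw [hfN, hfN, ← map_sub]
    apply hB.toBase₀.unit
    by_contra hn
    apply hij
    apply g.injective
    rw [← hr, ← hr, ← sub_eq_zero, ← map_sub, IsLocalRing.residue_eq_zero_iff,
      IsLocalRing.mem_maximalIdeal]
    exact hn
  have hfin : Module.Finite V (integralClosure V N) := finite_integralClosure v hV f hf heft
  have hfinL : Module.Finite V (integralClosure V L) := finite_sub (E := E) hfin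
  have hM0 : ∀ s ∈ M, algebraMap P E s ≠ 0 := by
    intro s hs h0
    rw [hM, IsScalarTower.algebraMap_apply P E N, h0, map_zero, map_zero] at hs
    exact zero_ne_one hs
  obtain ⟨b, hb, hbx⟩ := descend M (V := V) hM0 (exists_basis hfinL)
  refine ⟨b, hb, fun x hx' i => ?_⟩
  obtain ⟨s, hs, hsx⟩ := hx'
  obtain ⟨t, ht, a, hta⟩ := hbx x ⟨s, (hprim s).1 hs, hsx⟩ i
  exact ⟨t, a, (hprim t).2 ht, hta⟩

end G

end K830.EftLattice
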